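import Cfsg.Agent.H134.War.RowLie

/-!
# S2453: the statement from the rows still to come
-/

set_option autoImplicit false

namespace Cfsg.Agent.H134.War

open Cfsg.Agent.H459.Ore Cfsg.Lie

universe u

/-- `E₆` -/
theorem row_e6 {G : Type u} [Group G] (h : IsoChevE6 G) : Row G := by
  obtain ⟨K, _, _, ⟨e⟩⟩ := h
  intro k l hk hl hg hb
  rw [Nat.card_congr e.toEquiv] at hb
  exact (Cfsg.Agent.H584.War.Rows.kl_E6 k l hk hl hg hb).congr e.symm

/-- `F₄` -/
theorem row_f4 {G : Type u} [Group G] (h : IsoF4 G) : Row G := by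
  obtain ⟨K, _, _, ⟨e⟩⟩ := h
  intro k l hk hl hg hb
  rw [Nat.card_congr e.toEquiv] at hb
  exact (Cfsg.Agent.H584.War.Rows.kl_F4 k l hk hl hg hb).congr e.symm

/-- the rows of Lie type which are inputs of the assembly -/
structure LieRows : Prop where
  psp : ∀ {G : Type u} [Group G] [IsSimpleGroup G], IsPSp G → Row G
  poo : ∀ {G : Type u} [Group G] [IsSimpleGroup G], IsPOmegaOdd G → Row G
  pop : ∀ {G : Type u} [Group G] [IsSimpleGroup G], IsPOmegaPlus G → Row G
  pom : ∀ {G : Type u} [Group G] [IsSimpleGroup G], IsPOmegaMinus G → Row G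

/-- the statement, from the rows and the classification -/
theorem s2453_of (L : LieRows.{u}) (R : SqRows.{u}) {S : Type u} [Group S] [Finite S] [IsSimpleGroup S]
    (hS : ¬ IsMulCommutative S) (hK : IsKnownSimple' S) (k l : ℕ) (hk : 1 ≤ k) (hl : 1 ≤ l)
    (hbig : (max k l) ^ (8 * (max k l) ^ 2) ≤ Nat.card S) (g : S) : ∃ x y : S, g = x ^ k * y ^ l := by
  have h := main (clsRows L.psp L.poo L.pop L.pom) (excRows row_e6 row_f4) (sporRows R) hS hK
  exact final (h inferInstance inferInstance) k l hk hl hbig g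

/-- a row with characteristic, from the half `p ∣ k` or `p ∣ l` of a model -/
theorem row_of_model {G : Type u} [Group G] {H : Type*} [Group H] (e : G ≃* H) {p : ℕ} (hp : p.Prime)
    (hpp : Cfsg.Agent.H130.War.PP p G)
    (h : ∀ k l : ℕ, 2 ≤ k → 2 ≤ l → ¬ k.Coprime l → (p ∣ k ∨ p ∣ l) →
      (max k l) ^ (8 * (max k l) ^ 2) ≤ Nat.card H → KL H k l) : Row G :=
  row_of_char hp hpp fun k l hk hl hg hd hb => (h k l hk hl hg hd (by rwa [← Nat.card_congr e.toEquiv])).congr e.symm

end Cfsg.Agent.H134.War
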