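import Cfsg.Agent.H134.War.Assemble

set_option autoImplicit false

namespace Cfsg.Agent.H134.War

open Cfsg.Lie Cfsg.Agent.H130.War

universe u

variable {G : Type u} [Group G] [IsSimpleGroup G]

/-- the shape of the model rows -/
def MRow (F : Type) [Field F] [Fintype F] (H : Type) [Group H] : Prop :=
  ∀ p k l : ℕ, p.Prime → CharP F p → 2 ≤ k → 2 ≤ l → ¬ k.Coprime l → (p ∣ k ∨ p ∣ l) →
      (max k l) ^ (8 * (max k l) ^ 2) ≤ Nat.card H → KL H k l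

theorem row_psp (hr : ∀ (F : Type) [Field F] [Fintype F] (m : ℕ), 2 ≤ m → (m = 2 → 3 ≤ Fintype.card F) → MRow F (PSp m F))
    (h : IsPSp G) : Row G := by
  obtain ⟨F, _, _, m, hm, hx, ⟨e⟩⟩ := h
  obtain ⟨p, hc⟩ := CharP.exists F
  have hp : p.Prime := CharP.char_is_prime F p
  exact row_of_model e hp (H256.War.pp_PSp ⟨F, _, _, hc, m, hm, hx, ⟨e⟩⟩) fun k l => hr F m hm hx p k l hp hc

theorem row_poo (hr : ∀ (F : Type) [Field F] [Fintype F] (m : ℕ), 3 ≤ m → Odd (Fintype.card F) →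
    MRow F (POmega F (quadFormOdd m F)))
    (h : IsPOmegaOdd G) : Row G := by
  obtain ⟨F, _, _, m, hm, hx, ⟨e⟩⟩ := h
  obtain ⟨p, hc⟩ := CharP.exists F
  have hp : p.Prime := CharP.char_is_prime F p
  exact row_of_model e hp (H256.War.pp_POmegaOdd ⟨F, _, _, hc, m, hm, hx, ⟨e⟩⟩) fun k l => hr F m hm hx p k l hp hc

theorem row_pop (hr : ∀ (F : Type) [Field F] [Fintype F] (m : ℕ), 4 ≤ m →
    MRow F (POmega F (quadFormPlus m F)))
    (h : IsPOmegaPlus G) : Row G := by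
  obtain ⟨F, iF, iT, m, hm, ⟨e⟩⟩ := h
  obtain ⟨p, hc⟩ := CharP.exists F
  have hp : p.Prime := CharP.char_is_prime F p
  exact row_of_model e hp (H256.War.pp_POmegaPlus ⟨F, iF, iT, hc, m, hm, ⟨e⟩⟩) fun k l => hr F m hm p k l hp hc

theorem row_pom (hr : ∀ (F : Type) [Field F] [Fintype F] (m : ℕ) (a b : F), 4 ≤ m →
    (∀ z₁ z₂ : F, z₁ ^ 2 + a * z₁ * z₂ + b * z₂ ^ 2 = 0 → z₁ = 0 ∧ z₂ = 0) →
    MRow F (POmega F (quadFormMinus (m - 1) F a b)))
    (h : IsPOmegaMinus G) : Row G := by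
  obtain ⟨F, iF, iT, m, a, b, hm, hab, ⟨e⟩⟩ := h
  obtain ⟨p, hc⟩ := CharP.exists F
  have hp : p.Prime := CharP.char_is_prime F p
  exact row_of_model e hp (H256.War.pp_POmegaMinus ⟨F, iF, iT, hc, m, a, b, hm, hab, ⟨e⟩⟩)
    fun k l => hr F m a b hm hab p k l hp hc

end Cfsg.Agent.H134.War
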