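import Cfsg.Agent.H134.War.Frame
import Cfsg.Agent.H962.PP.PslWar
import Cfsg.Agent.H950.War.RowB
import Cfsg.Agent.H928.War.TwOne
import Cfsg.Agent.H874.War.Rk1
import Cfsg.Agent.H874.War.TwD4
import Cfsg.Agent.H874.War.TwF4
import Cfsg.Agent.H256.War.Fam
import Cfsg.Agent.H584.War.Rows

/-!
# S2453: the rows of Lie type, in the form of the frame
-/

set_option autoImplicit false

namespace Cfsg.Agent.H134.War

open Cfsg.Agent.H459.Ore Cfsg.Agent.NotCT Cfsg.Lie
open Cfsg.Agent.H130.War (PP SS)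

universe u

variable {G : Type u} [Group G]

/-- the row from the two halves -/
theorem row_of_char {p : ℕ} (hp : p.Prime) (hpp : PP p G)
    (h : ∀ k l : ℕ, 2 ≤ k → 2 ≤ l → ¬ k.Coprime l → (p ∣ k ∨ p ∣ l) →
      (max k l) ^ (8 * (max k l) ^ 2) ≤ Nat.card G → KL G k l) : Row G := by
  intro k l hk hl hg hb
  by_cases hd : p ∣ k ∨ p ∣ l
  · exact h k l hk hl hg hd hb
  · rw [not_or] at hd
    exact PP.kl hp hpp hd.1 hd.2

/-- the simple rows -/
def RowS (G : Type u) [Group G] : Prop := Finite G → IsSimpleGroup G → Row G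

theorem row_psl (h : IsPSL G) : Row G := by
  obtain ⟨F, _, _, n, hn, -, ⟨e⟩⟩ := h
  intro k l hk hl hg hb
  rw [Nat.card_congr e.toEquiv] at hb
  exact (Cfsg.Agent.H962.PP.kl_psl hn F hk hl hg hb).congr e.symm

theorem row_psu [IsSimpleGroup G] (h : IsPSU G) : Row G := by
  obtain ⟨F, _, _, n, q, hF, hn, hx, ⟨e⟩⟩ := h
  obtain ⟨p, hc⟩ := CharP.exists F
  have hp : p.Prime := CharP.char_is_prime F p
  refine row_of_char hp (H256.War.pp_PSU ⟨F, _, _, hc, n, q, hF, hn, hx, ⟨e⟩⟩) fun k l hk hl hg hd hb => ?_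
  rw [Nat.card_congr e.toEquiv] at hb
  exact (Cfsg.Agent.H950.War.kl_psu hF hn hp hk hl hg hd hb).congr e.symm

theorem row_te6 (h : Iso2E6 G) : Row G := by
  obtain ⟨K, _, _, q, hq, hK, ⟨e⟩⟩ := h
  intro k l hk hl hg hb
  rw [Nat.card_congr e.toEquiv] at hb
  exact (Cfsg.Agent.H928.War.TwOne.kl_2E6 hq hK hk hl hg hb).congr e.symm

theorem row_e8 (h : IsoE8 G) : Row G := by
  obtain ⟨K, _, _, ⟨e⟩⟩ := h
  intro k l hk hl hg hb
  rw [Nat.card_congr e.toEquiv] at hb
  exact (Cfsg.Agent.H584.War.Rows.kl_E8 k l hk hl hg hb).congr e.symm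

theorem row_e7 (h : IsoE7 G) : Row G := by
  obtain ⟨K, _, _, ⟨e⟩⟩ := h
  intro k l hk hl hg hb
  rw [Nat.card_congr e.toEquiv] at hb
  exact (Cfsg.Agent.H584.War.Rows.kl_E7 k l hk hl hg hb).congr e.symm

theorem row_g2 (h : IsoChevG2 G) : Row G := by
  obtain ⟨K, _, _, -, ⟨e⟩⟩ := h
  intro k l hk hl hg hb
  rw [Nat.card_congr e.toEquiv] at hb
  exact (Cfsg.Agent.H584.War.Rows.kl_G2 k l hk hl hg hb).congr e.symm

/-- the exceptional rows; `e6`, `f4` are the inputs still to come -/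
theorem excRows (e6 : ∀ {G : Type u} [Group G], IsoChevE6 G → Row G)
    (f4 : ∀ {G : Type u} [Group G], IsoF4 G → Row G) : ExcRows.{u} (fun G _ => RowS G) where
  g2 := fun h _ _ => row_g2 h
  f4 := fun h _ _ => f4 h
  e6 := fun h _ _ => e6 h
  e7 := fun h _ _ => row_e7 h
  e8 := fun h _ _ => row_e8 h
  te6 := fun h _ _ => row_te6 h
  td4 := fun h _ _ => H874.War.TwD4.kl_iso3D4 h
  sz := fun h _ _ => H874.War.kl_isoSuzuki h
  ree := fun h _ _ => H874.War.kl_isoRee h
  tf4 := fun h _ _ => H874.War.TwF4.kl_iso2F4 h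
  tits := fun h _ _ => row_of_small (Orders.tits h) (by norm_num)

/-- the classical rows -/
theorem clsRows (psp : ∀ {G : Type u} [Group G] [IsSimpleGroup G], IsPSp G → Row G)
    (poo : ∀ {G : Type u} [Group G] [IsSimpleGroup G], IsPOmegaOdd G → Row G)
    (pop : ∀ {G : Type u} [Group G] [IsSimpleGroup G], IsPOmegaPlus G → Row G)
    (pom : ∀ {G : Type u} [Group G] [IsSimpleGroup G], IsPOmegaMinus G → Row G) :
    ClsRows.{u} (fun G _ => RowS G) where
  alt := fun h _ _ => row_alt h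
  psl := fun h _ _ => row_psl h
  psp := fun h _ _ => psp h
  psu := fun h _ _ => row_psu h
  poo := fun h _ _ => poo h
  pop := fun h _ _ => pop h
  pom := fun h _ _ => pom h

theorem sporRows (R : SqRows.{u}) : SporRows.{u} (fun G _ => RowS G) := by
  have h := R.rows
  constructor
  all_goals intro G _ hG _ _
  · exact h.m11 hG
  · exact h.m12 hG
  · exact h.m22 hG
  · exact h.m23 hG
  · exact h.m24 hG
  · exact h.j1 hG
  · exact h.j2 hG
  · exact h.j3 hG
  · exact h.j4 hG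
  · exact h.co1 hG
  · exact h.co2 hG
  · exact h.co3 hG
  · exact h.mcL hG
  · exact h.hS hG
  · exact h.suz hG
  · exact h.he hG
  · exact h.ru hG
  · exact h.oN hG
  · exact h.ly hG
  · exact h.fi22 hG
  · exact h.fi23 hG
  · exact h.fi24 hG
  · exact h.hN hG
  · exact h.th hG
  · exact h.b hG
  · exact h.m hG

end Cfsg.Agent.H134.War
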