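import Cfsg.Agent.H134.Sq.Base
import Cfsg.Agent.H204.Ore.Ly

/-!
# S2453: products of two squares in the Lyons group
-/

set_option autoImplicit false

namespace Cfsg.Agent.H134.War

open Cfsg Cfsg.Agent Cfsg.Agent.SporRec.TwoAn Equiv
open Cfsg.Agent.H204.Ore.LyMain (G)

/-- involutions are squares -/
theorem ly_inv {g : G} (hg : g * g = 1) : Sq.IsP 2 g := by
  by_cases hg1 : g = 1
  · rw [hg1]; exact Sq.isP_one
  obtain ⟨M⟩ := TypeM.FactsLy.exists_mt_ly
  obtain ⟨c, hc⟩ := M.one g hg hg1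
  rw [← hc]
  refine Sq.IsP.conj ?_ c
  obtain ⟨a, ha⟩ := M.K.exists_lift (Cover.swap_mul_swap_mem (0 : Fin 11) 1 2 3 (by decide) (by decide))
  have h1 : a * a = M.K.z := by
    have h2 := M.K.sq_eq (g := a) (k := 1) (by rw [ha]; decide) (by rw [ha]; decide)
    simpa using h2
  refine ⟨((a : Subgroup.centralizer ({M.t} : Set G)) : G), 1, ?_⟩
  rw [one_pow, mul_one, pow_two]
  exact M.hz.symm.trans (congrArg Subtype.val h1.symm)

/-- every element of the Lyons group is a product of two squares -/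
theorem sq_ly (hK : H995.CopEngine.AllKnown.{0}) {S : Type*} [Group S] (h : Spor.IsoLy S) : Sq.AllP 2 S := by
  obtain ⟨e⟩ := h
  refine Sq.AllP.congr e.symm (H204.Ore.LyMain.all_of hK ?_ (fun _ => ly_inv) ?_)
  · intro g hg
    obtain ⟨x, hx, -⟩ := H204.Ore.Ly.exists_x
    obtain ⟨a, b, hab⟩ := H511.Ore.Ly.prd_ly hK hx hx (g := g) (hg.trans (by norm_num))
    exact Sq.isP_of_prd ⟨a, b, hab.symm⟩ (by rw [hx]; decide) (by rw [hx]; decide)
  · intro g u _ _ ho
    exact Sq.isP_of_coprime (Nat.coprime_two_right.2 ho)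

end Cfsg.Agent.H134.War
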