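import Cfsg.Agent.H134.War.RowCls
import Cfsg.Agent.H295.War.Rows

/-!
# S2453: the orthogonal rows
-/

set_option autoImplicit false

namespace Cfsg.Agent.H134.War

universe u

theorem row_poo' {G : Type u} [Group G] [IsSimpleGroup G] (h : IsPOmegaOdd G) : Row G :=
  row_poo (fun F _ _ m hm ho p k l hp hc hk hl hg hd hb => by
    have := hc
    exact Cfsg.Agent.H295.War.kl_pomega_odd hm ho hp hk hl hg hd hb) h

theorem row_pop' {G : Type u} [Group G] [IsSimpleGroup G] (h : IsPOmegaPlus G) : Row G :=
  row_pop (fun F _ _ m hm p k l hp hc hk hl hg hd hb => by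
    have := hc
    exact Cfsg.Agent.H295.War.kl_pomega_plus hm hp hk hl hg hd hb) h

theorem row_pom' {G : Type u} [Group G] [IsSimpleGroup G] (h : IsPOmegaMinus G) : Row G :=
  row_pom (fun F _ _ m a b hm hab p k l hp hc hk hl hg hd hb => by
    have := hc
    exact Cfsg.Agent.H295.War.kl_pomega_minus hm hab hp hk hl hg hd hb) h

end Cfsg.Agent.H134.War
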