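import Cfsg.Agent.H134.War.RowCls
import Cfsg.Agent.H144.War.KlPsp

/-!
# S2453: the symplectic row
-/

set_option autoImplicit false

namespace Cfsg.Agent.H134.War

universe u

theorem row_psp' {G : Type u} [Group G] [IsSimpleGroup G] (h : IsPSp G) : Row G :=
  row_psp (fun F _ _ m hm _ p k l hp hc hk hl hg hd hb => by
    have := hc
    exact Cfsg.Agent.H144.War.kl_psp hm hp hk hl hg hd hb) h

end Cfsg.Agent.H134.War
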